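import Groth.Agent.H53.RelNorm.Red
import Groth.Agent.H53.IntegralComp
import Groth.Agent.H53.QcImageD
import Groth.Agent.H53.Birat.NormSch
import Groth.Agent.H53.Birat.BaseChange
import Groth.Agent.H52.QC5
import Groth.Agent.H52.ThickLift2
import Groth.Agent.Lib.Helper54.AffineDescent

set_option autoImplicit false
set_option backward.isDefEq.respectTransparency false
universe u
open CategoryTheory CategoryTheory.Limits AlgebraicGeometry AlgSp TopologicalSpace

namespace Groth.Agent.H53.RelNorm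

open Groth.Agent.Lib.Helper54 Groth.Agent.H53.Birat

variable {S : Scheme.{u}}

/-- Generic points of the target of a morphism of affine schemes which is injective on functions
lift to generic points of the source. -/
theorem exists_genericPoint_over {W V : Scheme.{u}} [IsAffine W] [IsAffine V] (d : W ⟶ V)
    (hinj : Function.Injective d.appTop.hom) (v : V) (hv : v ∈ genericPoints V) :
    ∃ w ∈ genericPoints W, d w = v := by
  let φ := d.appTop
  have hP : V.isoSpec.hom v ∈ genericPoints (Spec Γ(V, ⊤)) :=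
    (mem_genericPoints_iff_of_iso V.isoSpec v).2 hv
  have hmin : (V.isoSpec.hom v).asIdeal ∈ minimalPrimes Γ(V, ⊤) := by
    rw [Lib.Helper3.IrrCompStalk.minimalPrimes_eq_image_genericPoints]
    exact ⟨_, hP, rfl⟩
  have hmin' : (V.isoSpec.hom v).asIdeal ∈ ((⊥ : Ideal Γ(W, ⊤)).comap φ.hom).minimalPrimes := by
    rw [Ideal.comap_bot_of_injective _ hinj]
    exact hmin
  obtain ⟨𝔮, h𝔮, hc⟩ := Ideal.exists_minimalPrimes_comap_eq φ.hom _ hmin'
  have h𝔮' : 𝔮 ∈ minimalPrimes Γ(W, ⊤) := h𝔮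
  rw [Lib.Helper3.IrrCompStalk.minimalPrimes_eq_image_genericPoints] at h𝔮'
  obtain ⟨Q, hQ, rfl⟩ := h𝔮'
  refine ⟨W.isoSpec.inv Q, (mem_genericPoints_iff_of_iso W.isoSpec.symm Q).2 hQ, ?_⟩
  apply (Scheme.homeoOfIso V.isoSpec).injective
  change V.isoSpec.hom (d (W.isoSpec.inv Q)) = V.isoSpec.hom v
  have hnat : (W.isoSpec.inv ≫ d ≫ V.isoSpec.hom) = Spec.map φ := by
    rw [← Scheme.isoSpec_hom_naturality, Iso.inv_hom_id_assoc]
  have h1 : V.isoSpec.hom (d (W.isoSpec.inv Q)) = (Spec.map φ) Q := by rw [← hnat]; rfl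
  rw [h1]
  exact PrimeSpectrum.ext hc

/-- Points of codimension zero of a scheme are the generic points of its irreducible
components. -/
theorem ringKrullDim_stalk_eq_zero_iff_mem_genericPoints (T : Over S) (t : ↥T.left) :
    ringKrullDim ↥(T.left.presheaf.stalk t) = 0 ↔ t ∈ genericPoints ↥T.left := by
  have hVa : IsAlgSpace ((yon S).obj T) := IsAlgSpace.yon_obj T
  have hVd : IsDecent ((yon S).obj T) := isDecent_yon_obj T
  rw [ringKrullDim_stalk_eq_zero_iff_of_isDecent hVa hVd (𝟙 _)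
    (repWith_id (@Etale : MorphismProperty Scheme.{u}) T) t]
  exact mem_genericPoints_iff_of_homeomorph (Points.schemeHomeo T) t

/-- The normalization map `f'` is schematically dominant. -/
theorem isSchImage_id_of_isRelNormalization {Y X X' : Sp S} (hX' : IsAlgSpace X') (f : Y ⟶ X)
    (ν : X' ⟶ X) (f' : Y ⟶ X') (hn : IsRelNormalization f ν f') : IsSchImage f' (𝟙 X') := by
  obtain ⟨hfac, hν, huniv⟩ := hn
  refine ⟨H52.repWith_of_isIso _ _, ⟨f', Category.comp_id _⟩, ?_⟩
  rintro Z i hZalg hci ⟨k, hk⟩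
  have hπ : IsIntegralMor (i ≫ ν) := isIntegralMor_comp_of_isClosedImmersion i ν hci hν
  have hkπ : k ≫ i ≫ ν = f := by rw [← Category.assoc, hk, hfac]
  obtain ⟨h, ⟨hh1, hh2⟩, -⟩ := huniv hZalg (i ≫ ν) k hπ hkπ
  obtain ⟨h₀, -, huniq⟩ := huniv hX' ν f' hν hfac
  have e1 : h ≫ i = h₀ := huniq _ ⟨by rw [← Category.assoc, hh1, hk], by
    rw [Category.assoc]; exact hh2⟩
  have e2 : 𝟙 X' = h₀ := huniq _ ⟨Category.comp_id _, Category.id_comp _⟩
  exact ⟨h, e1.trans e2.symm⟩

/-- The normalization map `f'` is quasi-compact when `f` is. -/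
theorem isQuasiCompactMor_of_isRelNormalization {Y X X' : Sp S} (hY : IsAlgSpace Y)
    (hX : IsAlgSpace X) (hX' : IsAlgSpace X') (f : Y ⟶ X) (hqc : IsQuasiCompactMor f)
    (ν : X' ⟶ X) (f' : Y ⟶ X') (hn : IsRelNormalization f ν f') : IsQuasiCompactMor f' := by
  obtain ⟨hfac, hν, -⟩ := hn
  have hsep : IsSeparatedMor ν :=
    isSeparatedMor_of_isAffineMor hX' ν (isAffineMor_of_isIntegralMor ν hν)
  have hqs : IsQuasiSeparatedMor ν := repWith_of_le (fun A B φ hφ => by
    have : IsClosedImmersion φ := hφ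
    infer_instance) hsep
  exact H52.isQuasiCompactMor_of_comp hY hX' hX f' ν (hfac ▸ hqc) hqs

end Groth.Agent.H53.RelNorm
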