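import Groth.Agent.H53.RelNorm.Codim0
import Groth.Agent.H53.ZarGlueAff
import Groth.Agent.H52.Epi
import Groth.Agent.H52.QC

set_option autoImplicit false
set_option backward.isDefEq.respectTransparency false
universe u
open CategoryTheory CategoryTheory.Limits AlgebraicGeometry AlgSp TopologicalSpace

namespace Groth.Agent.H53.RelNorm

open Groth.Agent.Lib.Helper54 Groth.Agent.H53.Birat Groth.Agent.H53.LocPrinc

variable {S : Scheme.{u}}

/-- Affine chart version. -/
theorem exists_codim_zero_over_aux {Y X X' : Sp S} (hY : IsAlgSpace Y) (hX : IsAlgSpace X)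
    (hX' : IsAlgSpace X') (f : Y ⟶ X) (hqc : IsQuasiCompactMor f) (ν : X' ⟶ X) (f' : Y ⟶ X')
    (hn : IsRelNormalization f ν f') {V : Over S} (hVaff : IsAffine V.left)
    (b : (yon S).obj V ⟶ X') (hb : RepWith @Etale b) (v : ↥V.left)
    (hvgen : v ∈ genericPoints ↥V.left) :
    ∃ y : Points Y, HasAt (fun U u => ringKrullDim ↥(U.presheaf.stalk u) = 0) Y y ∧
      Points.map f' y = Points.ofPt b v := by
  have hE : (RepWith (S := S) @Etale).IsMultiplicative := repWith_isMultiplicative _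
  have sq : IsPullback (pullback.fst f' b) (pullback.snd f' b) f' b := IsPullback.of_hasPullback _ _
  have hPalg : IsAlgSpace (pullback f' b) :=
    H52.isAlgSpace_of_isPullback sq hY hX' (IsAlgSpace.yon_obj V)
  have hf'qc := isQuasiCompactMor_of_isRelNormalization hY hX hX' f hqc ν f' hn
  have hPqc : IsQuasiCompactSp (pullback f' b) :=
    hf'qc (IsAlgSpace.yon_obj V) (H52.isQuasiCompactSp_yon V) b _ _ sq
  obtain ⟨W, e, hWaff, hee, hes⟩ := exists_affine_etale_chart hPqc
  obtain ⟨d, hd⟩ := (yon S).map_surjective (e ≫ pullback.snd f' b)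
  have hEpi : Epi e := H52.epi_of_repWith_etale_surjective e hee hes
  have hker : QcImage.IsKer (pullback.snd f' b) d.left.ker := QcImage.isKer_of_atlas _ e d hd
  have hschim : IsSchImage (pullback.snd f' b) (𝟙 ((yon S).obj V)) :=
    QcImage.isSchImage_pullback_of_flat (IsAlgSpace.yon_obj V) hX' hY b
      (QcImage.locP_flat_of_isEtaleMor (H52.isEtaleMor_of_repWith_etale b hb)) f' hf'qc (𝟙 X')
      (isSchImage_id_of_isRelNormalization hX' f ν f' hn) (pullback.fst f' b)
      (pullback.snd f' b) sq b (𝟙 _) (IsPullback.of_vert_isIso ⟨by simp⟩)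
  have hK : d.left.ker = ⊥ := by
    obtain ⟨l, hl⟩ := (hker d.left.ker).2 le_rfl
    obtain ⟨-, -, hmin⟩ := hschim
    have hci : RepWith @IsClosedImmersion ((yon S).map (subOverι V d.left.ker)) :=
      (repWith_yon_map_iff _ _).2 (inferInstanceAs (IsClosedImmersion d.left.ker.subschemeι))
    obtain ⟨k, hk⟩ := hmin ((yon S).map (subOverι V d.left.ker)) (IsAlgSpace.yon_obj _) hci ⟨l, hl⟩
    obtain ⟨k₀, rfl⟩ := (yon S).map_surjective k
    have hk₀ : k₀ ≫ subOverι V d.left.ker = 𝟙 V :=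
      (yon S).map_injective (by rw [Functor.map_comp, hk]; exact ((yon S).map_id V).symm)
    have h1 := QcImage.le_ker_of_lift_subOver (𝟙 V) d.left.ker k₀ hk₀
    have h2 : (𝟙 V : V ⟶ V).left.ker = ⊥ := Scheme.Hom.ker_eq_bot_of_isIso (𝟙 V.left)
    rw [h2] at h1
    exact le_bot_iff.1 h1
  have _ : IsAffine W.left := hWaff
  have _ : IsAffine V.left := hVaff
  have _ : IsSchemeTheoreticallyDominant d.left := (isSchemeTheoreticallyDominant_iff _).2 hK
  have hinj : Function.Injective d.left.appTop.hom := d.left.app_injective ⊤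
  obtain ⟨w, hw, hwv⟩ := exists_genericPoint_over d.left hinj v hvgen
  have hfst : RepWith @Etale (pullback.fst f' b) := MorphismProperty.of_isPullback sq.flip hb
  refine ⟨Points.ofPt (e ≫ pullback.fst f' b) w, ⟨W, e ≫ pullback.fst f' b, w,
    hE.comp_mem _ _ hee hfst, rfl,
    (ringKrullDim_stalk_eq_zero_iff_mem_genericPoints W w).2 hw⟩, ?_⟩
  rw [Points.map_ofPt, Category.assoc, sq.w, ← Category.assoc, ← hd, H53.ofPt_yon_map_comp, hwv]

/-- S10317: codimension-zero points of the normalization come from codimension-zero points. -/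
theorem exists_codim_zero_over {Y X X' : Sp S} (hY : IsAlgSpace Y) (hX : IsAlgSpace X)
    (hX' : IsAlgSpace X') (f : Y ⟶ X) (hqc : IsQuasiCompactMor f) (ν : X' ⟶ X) (f' : Y ⟶ X')
    (hn : IsRelNormalization f ν f') (x' : Points X')
    (hx' : HasAt (fun U u => ringKrullDim ↥(U.presheaf.stalk u) = 0) X' x') :
    ∃ y : Points Y, HasAt (fun U u => ringKrullDim ↥(U.presheaf.stalk u) = 0) Y y ∧
      Points.map f' y = x' := by
  obtain ⟨U, a, u, hae, rfl, hdim⟩ := hx'
  obtain ⟨U₀, hU₀, huU₀⟩ := GenFin.exists_affineOpen_mem U.left u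
  have hE : (RepWith (S := S) @Etale).IsMultiplicative := repWith_isMultiplicative _
  have hVaff : IsAffine (ZarGlue.ov U U₀).left := hU₀
  have hb : RepWith @Etale ((yon S).map (ZarGlue.ovι U U₀) ≫ a) := by
    refine hE.comp_mem _ _ ((repWith_yon_map_iff _ _).2 ?_) hae
    exact inferInstanceAs (Etale U₀.ι)
  have hbv : Points.ofPt ((yon S).map (ZarGlue.ovι U U₀) ≫ a)
      (show ↥(ZarGlue.ov U U₀).left from ⟨u, huU₀⟩) = Points.ofPt a u := by
    rw [H53.ofPt_yon_map_comp]
    rfl
  have hvgen : (show ↥(ZarGlue.ov U U₀).left from ⟨u, huU₀⟩) ∈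
      genericPoints ↥(ZarGlue.ov U U₀).left := by
    rw [← ringKrullDim_stalk_eq_zero_iff_mem_genericPoints]
    let e : U.left.presheaf.stalk u ≃+* U₀.toScheme.presheaf.stalk ⟨u, huU₀⟩ :=
      (asIso (U₀.ι.stalkMap ⟨u, huU₀⟩)).commRingCatIsoToRingEquiv
    have h1 := ringKrullDim_eq_of_ringEquiv e
    rw [hdim] at h1
    exact h1.symm
  rw [← hbv]
  exact exists_codim_zero_over_aux hY hX hX' f hqc ν f' hn hVaff _ hb _ hvgen

end Groth.Agent.H53.RelNorm
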