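import Groth.Agent.H53.SchImageRed
import Groth.Agent.H53.ZarGlueInt
import Groth.Agent.H53.Proper
import Groth.Prelude.Def_AlgSpMor5

set_option autoImplicit false
set_option backward.isDefEq.respectTransparency false
universe u
open CategoryTheory CategoryTheory.Limits AlgebraicGeometry AlgSp

namespace Groth.Agent.H53.RelNorm

variable {S : Scheme.{u}}

/-- The composite of a closed immersion and an integral morphism is integral. -/
theorem isIntegralMor_comp_of_isClosedImmersion {Z X' X : Sp S} (i : Z ⟶ X') (ν : X' ⟶ X)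
    (hi : RepWith @IsClosedImmersion i) (hν : IsIntegralMor ν) : IsIntegralMor (i ≫ ν) := by
  rw [ZarGlue.isIntegralMor_iff_repWith] at hν ⊢
  have hM : (RepWith (S := S) @IsIntegralHom).IsMultiplicative := repWith_isMultiplicative _
  refine hM.comp_mem _ _ (repWith_of_le (fun A B φ hφ => ?_) hi) hν
  have : IsClosedImmersion φ := hφ
  infer_instance

/-- Reducedness is invariant under isomorphism. -/
theorem isReducedSp_of_iso {Z X' : Sp S} (i : Z ⟶ X') [IsIso i] (hZ : IsReducedSp Z) :
    IsReducedSp X' := by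
  obtain ⟨W, e, hee, hes, hW⟩ := hZ
  exact ⟨W, e ≫ i, MorphismProperty.RespectsIso.postcomp _ i e hee,
    MorphismProperty.RespectsIso.postcomp _ i e hes, hW⟩

/-- S10333: the normalization of `X` in a reduced `Y` is reduced. -/
theorem isReducedSp_of_isRelNormalization {Y X X' : Sp S} (hX' : IsAlgSpace X') (f : Y ⟶ X)
    (ν : X' ⟶ X) (f' : Y ⟶ X') (hn : IsRelNormalization f ν f') (hY : IsReducedSp Y) :
    IsReducedSp X' := by
  obtain ⟨hfac, hν, huniv⟩ := hn
  obtain ⟨Z, i, hZalg, hmono, hci, hrange, hZred⟩ :=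
    RedInduced.exists_isRedInduced hX' Set.univ isClosed_univ
  obtain ⟨k, hk⟩ := SchImageRed.exists_factor_of_isReducedSp hY f' i hci
    (by rw [hrange]; exact Set.subset_univ _)
  have hπ : IsIntegralMor (i ≫ ν) := isIntegralMor_comp_of_isClosedImmersion i ν hci hν
  have hkπ : k ≫ i ≫ ν = f := by rw [← Category.assoc, hk, hfac]
  obtain ⟨h, ⟨hh1, hh2⟩, -⟩ := huniv hZalg (i ≫ ν) k hπ hkπ
  obtain ⟨h₀, -, huniq⟩ := huniv hX' ν f' hν hfac
  have e1 : h ≫ i = h₀ := huniq _ ⟨by rw [← Category.assoc, hh1, hk], by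
    rw [Category.assoc]; exact hh2⟩
  have e2 : 𝟙 X' = h₀ := huniq _ ⟨Category.comp_id _, Category.id_comp _⟩
  have hsplit : IsSplitEpi i := ⟨⟨h, e1.trans e2.symm⟩⟩
  have hiso : IsIso i := isIso_of_mono_of_isSplitEpi i
  exact isReducedSp_of_iso i hZred

end Groth.Agent.H53.RelNorm
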