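import Groth.Agent.H53.ZarGlueInt
import Groth.Prelude.Def_AlgSpMor5
import Mathlib.AlgebraicGeometry.Normalization

set_option autoImplicit false
set_option backward.isDefEq.respectTransparency false
universe u
open CategoryTheory CategoryTheory.Limits AlgebraicGeometry AlgSp

namespace Groth.Agent.H53.RelNorm

variable {S : Scheme.{u}}

/-- A morphism to a representable sheaf which is representable with `P` comes from a morphism of
schemes with `P`. -/
theorem exists_representing {Z : Sp S} {U : Over S} (π : Z ⟶ (yon S).obj U)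
    {P : MorphismProperty Scheme.{u}} (hπ : RepWith P π) :
    ∃ (Z₀ : Over S) (θ : (yon S).obj Z₀ ≅ Z) (π₀ : Z₀ ⟶ U),
      θ.hom ≫ π = (yon S).map π₀ ∧ P π₀.left := by
  have hrep := hπ.rep
  have sq := hrep.isPullback (𝟙 ((yon S).obj U))
  have hiso : IsIso (hrep.fst (𝟙 ((yon S).obj U))) := sq.isIso_fst_of_isIso
  refine ⟨hrep.pullback (𝟙 _), asIso (hrep.fst (𝟙 _)), hrep.snd (𝟙 _), ?_, hπ.property_snd _⟩
  rw [asIso_hom, sq.w, Category.comp_id]

/-- S10298: the relative normalization of schemes is the normalization in the sense of algebraic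
spaces. -/
theorem isRelNormalization_yon {V U N : Over S} (g : V ⟶ U) [QuasiCompact g.left]
    [QuasiSeparated g.left] (f' : V ⟶ N) (ν : N ⟶ U)
    (e : N.left ≅ g.left.normalization) (he1 : f'.left ≫ e.hom = g.left.toNormalization)
    (he2 : e.hom ≫ g.left.fromNormalization = ν.left) :
    IsRelNormalization ((yon S).map g) ((yon S).map ν) ((yon S).map f') := by
  have hfac : f' ≫ ν = g := by
    ext
    change f'.left ≫ ν.left = g.left
    rw [← he2, ← Category.assoc, he1, Scheme.Hom.toNormalization_fromNormalization]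
  have hνint : IsIntegralHom ν.left := by rw [← he2]; infer_instance
  refine ⟨by rw [← Functor.map_comp, hfac],
    (ZarGlue.isIntegralMor_iff_repWith _).2 ((repWith_yon_map_iff _ _).2 hνint), ?_⟩
  intro Z hZ π γ hπ hγ
  have hπ' := (ZarGlue.isIntegralMor_iff_repWith π).1 hπ
  obtain ⟨Z₀, θ, π₀, hθ, hπ₀⟩ := exists_representing π hπ'
  have _ : IsIntegralHom π₀.left := hπ₀
  obtain ⟨γ₀, hγ₀⟩ := (yon S).map_surjective (γ ≫ θ.inv)
  have hγπ : γ₀ ≫ π₀ = g := by
    apply (yon S).map_injective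
    rw [Functor.map_comp, hγ₀, ← hθ, Category.assoc, Iso.inv_hom_id_assoc, hγ]
  have H : g.left = γ₀.left ≫ π₀.left := by rw [← hγπ]; rfl
  let h₀ := g.left.normalizationDesc γ₀.left π₀.left H
  have hh₀1 : g.left.toNormalization ≫ h₀ = γ₀.left :=
    Scheme.Hom.toNormalization_normalizationDesc g.left γ₀.left π₀.left H
  have hh₀2 : h₀ ≫ π₀.left = g.left.fromNormalization :=
    Scheme.Hom.normalizationDesc_comp g.left γ₀.left π₀.left H
  let h₁ : N ⟶ Z₀ := Over.homMk (e.hom ≫ h₀) (by
    rw [← Over.w π₀, Category.assoc, ← Category.assoc h₀, hh₀2, ← Category.assoc, he2, Over.w ν])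
  have hh₁1 : f' ≫ h₁ = γ₀ := by
    ext
    change f'.left ≫ e.hom ≫ h₀ = γ₀.left
    rw [← Category.assoc, he1, hh₀1]
  have hh₁2 : h₁ ≫ π₀ = ν := by
    ext
    change (e.hom ≫ h₀) ≫ π₀.left = ν.left
    rw [Category.assoc, hh₀2, he2]
  refine ⟨(yon S).map h₁ ≫ θ.hom, ⟨?_, ?_⟩, ?_⟩
  · rw [← Category.assoc, ← Functor.map_comp, hh₁1, hγ₀, Category.assoc, Iso.inv_hom_id,
      Category.comp_id]
  · rw [Category.assoc, hθ, ← Functor.map_comp, hh₁2]
  · rintro h' ⟨hh'1, hh'2⟩
    obtain ⟨k, hk⟩ := (yon S).map_surjective (h' ≫ θ.inv)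
    have hk1 : f' ≫ k = γ₀ := by
      apply (yon S).map_injective
      rw [Functor.map_comp, hk, ← Category.assoc, hh'1, hγ₀]
    have hk2 : k ≫ π₀ = ν := by
      apply (yon S).map_injective
      rw [Functor.map_comp, hk, ← hθ, Category.assoc, Iso.inv_hom_id_assoc, hh'2]
    have hk1' : f'.left ≫ k.left = γ₀.left := congrArg CommaMorphism.left hk1
    have hk2' : k.left ≫ π₀.left = ν.left := congrArg CommaMorphism.left hk2
    have hkl : e.inv ≫ k.left = h₀ := by
      apply Scheme.Hom.normalization.hom_ext g.left _ _ π₀.left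
      · rw [hh₀1, ← he1, Category.assoc, Iso.hom_inv_id_assoc, hk1']
      · rw [Category.assoc, hk2', ← he2, Iso.inv_hom_id_assoc]
      · exact hh₀2
    have hkh : k = h₁ := by
      ext
      change k.left = e.hom ≫ h₀
      rw [← hkl, Iso.hom_inv_id_assoc]
    calc h' = (h' ≫ θ.inv) ≫ θ.hom := by rw [Category.assoc, Iso.inv_hom_id, Category.comp_id]
      _ = (yon S).map h₁ ≫ θ.hom := by rw [← hk, hkh]

end Groth.Agent.H53.RelNorm
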